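import Groth.Prelude.Def_EtRam
import Mathlib.RingTheory.Valuation.LocalSubring
import Mathlib.RingTheory.DedekindDomain.IntegralClosure
import Mathlib.RingTheory.DiscreteValuationRing.TFAE
import Mathlib.RingTheory.Nakayama
import Mathlib.RingTheory.Bezout
import Mathlib.LinearAlgebra.TensorProduct.Tower
import Mathlib.RingTheory.Artinian.Module
import Mathlib.RingTheory.LocalRing.ResidueField.Ideal

/-! # Totally ramified extensions as weak solutions -/

set_option autoImplicit false
set_option linter.style.haveILetI false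

universe u

open IsLocalRing TensorProduct

namespace Groth.L05.TotRam

open EtRam

/-- In the valuation of a totally ramified situation combinations of low powers have as valuation a
power of the uniformiser. -/
theorem valuation_sum_eq {L E : Type u} [Field L] [Field E] [Algebra L E] (W : ValuationSubring E)
    (ρ : E) (hρ : ρ ≠ 0) (hρ1 : W.valuation ρ < 1) {e : ℕ}
    (hval : ∀ l : L, l ≠ 0 → ∃ k : ℤ, W.valuation (algebraMap L E l) = W.valuation ρ ^ ((e : ℤ) * k))
    (c : Fin e → L) (hc : ∃ i, c i ≠ 0) :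
    ∃ z : ℤ, W.valuation (∑ i, algebraMap L E (c i) * ρ ^ (i : ℕ)) = W.valuation ρ ^ z := by
  classical
  set v := W.valuation with hv
  have hv0 : v ρ ≠ 0 := (map_ne_zero v).mpr hρ
  have hvpos : 0 < v ρ := zero_lt_iff.mpr hv0
  set s := Finset.univ.filter fun i => c i ≠ 0 with hs
  have hterm : ∀ i ∈ s, ∃ k : ℤ, v (algebraMap L E (c i) * ρ ^ (i : ℕ)) = v ρ ^ ((e : ℤ) * k + (i : ℤ)) := by
    intro i hi
    obtain ⟨k, hk⟩ := hval (c i) (Finset.mem_filter.mp hi).2
    exact ⟨k, by rw [map_mul, map_pow, hk, zpow_add₀ hv0, zpow_natCast]⟩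
  have hsne : s.Nonempty := by
    obtain ⟨i, hi⟩ := hc
    exact ⟨i, Finset.mem_filter.mpr ⟨Finset.mem_univ _, hi⟩⟩
  obtain ⟨j, hj, hmax⟩ := Finset.exists_max_image s (fun i => v (algebraMap L E (c i) * ρ ^ (i : ℕ))) hsne
  obtain ⟨k, hk⟩ := hterm j hj
  refine ⟨(e : ℤ) * k + (j : ℤ), ?_⟩
  rw [← hk]
  have hsum : ∑ i, algebraMap L E (c i) * ρ ^ (i : ℕ) = ∑ i ∈ s, algebraMap L E (c i) * ρ ^ (i : ℕ) := by
    rw [hs, Finset.sum_filter]
    refine Finset.sum_congr rfl fun i _ => ?_
    by_cases h : c i = 0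
    · simp [h]
    · simp [h]
  rw [hsum]
  refine v.map_sum_eq_of_lt hj fun i hi => ?_
  rw [Finset.mem_sdiff, Finset.mem_singleton] at hi
  refine lt_of_le_of_ne (hmax i hi.1) fun h => hi.2 ?_
  obtain ⟨k', hk'⟩ := hterm i hi.1
  rw [hk', hk] at h
  have h2 := zpow_right_injective₀ hvpos hρ1.ne h
  have h3 : ((i : ℕ) : ℤ) - (j : ℕ) = (e : ℤ) * (k - k') := by rw [mul_sub]; linarith
  refine Fin.ext ?_
  have hie := i.2
  have hje := j.2
  rcases lt_trichotomy (k - k') 0 with hlt | heq | hgt
  · nlinarith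
  · rw [heq, mul_zero] at h3; omega
  · nlinarith

/-- A local domain inside a field is dominated by a valuation ring. -/
theorem exists_dominating (B : Type u) [CommRing B] [IsLocalRing B] {F : Type u} [Field F] (g : B →+* F)
    (hg : Function.Injective g) : ∃ W : ValuationSubring F, Dominates B g W := by
  obtain ⟨W, hle, hWn⟩ := Ideal.image_subset_nonunits_valuationSubring (A := g.range)
    ((maximalIdeal B).map g.rangeRestrict) (fun h => by
      obtain ⟨b, hb, h1⟩ := (Ideal.mem_map_iff_of_surjective _ g.rangeRestrict_surjective).mp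
        (h ▸ Submodule.mem_top : (1 : g.range) ∈ (maximalIdeal B).map g.rangeRestrict)
      have : b = 1 := hg (by rw [map_one]; exact congrArg Subtype.val h1)
      exact (mem_maximalIdeal _).mp hb (this ▸ isUnit_one))
  exact ⟨W, fun b => hle (RingHom.mem_range.mpr ⟨b, rfl⟩),
    fun b hb => (ValuationSubring.mem_nonunits_iff (A := W)).mp (hWn ⟨_, Ideal.mem_map_of_mem _ hb, rfl⟩)⟩

variable (A B K L : Type u) [CommRing A] [IsDomain A] [IsDiscreteValuationRing A]
    [CommRing B] [IsDomain B] [IsDiscreteValuationRing B] [Algebra A B] [IsLocalHom (algebraMap A B)]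
    [Field K] [Field L] [Algebra A K] [IsFractionRing A K] [Algebra B L] [IsFractionRing B L]
    [Algebra K L] [Algebra A L] [IsScalarTower A K L] [IsScalarTower A B L]
    (K₁ : Type u) [Field K₁] [Algebra K K₁] [FiniteDimensional K K₁]

/-- The data of a totally ramified extension: a uniformiser whose low powers span, with
`Π ^ e` a uniformiser downstairs up to a unit. -/
theorem exists_data [Algebra.IsSeparable K K₁]
    (ht : IsTotallyRamified A ((algebraMap K K₁).comp (algebraMap A K))) :
    ∃ (V : ValuationSubring K₁) (π : A) (e : ℕ) (P : V) (u : Vˣ),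
      Dominates A ((algebraMap K K₁).comp (algebraMap A K)) V ∧
      (∀ V' : ValuationSubring K₁, Dominates A ((algebraMap K K₁).comp (algebraMap A K)) V' → V' = V) ∧
      Irreducible π ∧ 0 < e ∧ (P : K₁) ≠ 0 ∧ P ∈ maximalIdeal V ∧
      algebraMap K K₁ (algebraMap A K π) = (P : K₁) ^ e * ((u : V) : K₁) ∧
      Submodule.span K (Set.range fun i : Fin e => (P : K₁) ^ (i : ℕ)) = ⊤ := by
  obtain ⟨⟨V, hV⟩, huniq, hres⟩ := ht
  set g := (algebraMap K K₁).comp (algebraMap A K) with hg
  letI : Algebra A K₁ := g.toAlgebra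
  haveI : IsScalarTower A K K₁ := IsScalarTower.of_algebraMap_eq fun _ => rfl
  letI : Algebra A V := (g.codRestrict V.toSubring hV.1).toAlgebra
  obtain ⟨π, hπ⟩ := IsDiscreteValuationRing.exists_irreducible A
  have hg0 : Function.Injective g := (algebraMap K K₁).injective.comp (IsFractionRing.injective A K)
  -- `V` is the integral closure
  have hVC : ∀ x : K₁, x ∈ V ↔ x ∈ integralClosure A K₁ := by
    intro x
    constructor
    · intro hx
      by_contra hxC
      haveI : IsIntegrallyClosedIn (integralClosure A K₁).toSubring K₁ := by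
        rw [Subring.isIntegrallyClosedIn_iff]
        intro y hy
        exact isIntegral_trans (R := A) (A := integralClosure A K₁) y hy
      obtain ⟨V', hV', hxV'⟩ := (integralClosure A K₁).toSubring.exists_le_valuationSubring_of_isIntegrallyClosedIn hxC
      have hA' : ∀ a, g a ∈ V' := fun a => hV' ((integralClosure A K₁).algebraMap_mem a)
      by_cases hdom : ∀ a ∈ maximalIdeal A, V'.valuation (g a) < 1
      · exact hxV' (huniq V V' hV ⟨hA', hdom⟩ ▸ hx)
      push Not at hdom
      obtain ⟨a, ha, ha'⟩ := hdom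
      have hπ' : (g π)⁻¹ ∈ V' := by
        obtain ⟨b, hb⟩ := (Irreducible.maximalIdeal_eq hπ ▸ ha : a ∈ Ideal.span {π}) |>
          Ideal.mem_span_singleton.mp
        have h1 : V'.valuation (g a) = 1 := le_antisymm ((V'.valuation_le_one_iff _).mpr (hA' a)) ha'
        rw [hb, map_mul, map_mul] at h1
        have h2 : V'.valuation (g π) = 1 := by
          refine le_antisymm ((V'.valuation_le_one_iff _).mpr (hA' π)) ?_
          rw [← h1]
          exact mul_le_of_le_one_right' ((V'.valuation_le_one_iff _).mpr (hA' b))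
        rw [← V'.valuation_le_one_iff, map_inv₀, h2, inv_one]
      have hK : ∀ q : K, algebraMap K K₁ q ∈ V' := by
        intro q
        obtain ⟨a', b', hb', rfl⟩ := IsFractionRing.div_surjective (A := A) q
        obtain ⟨n, w, rfl⟩ := IsDiscreteValuationRing.eq_unit_mul_pow_irreducible
          (nonZeroDivisors.ne_zero hb') hπ
        have hwinv : g (↑w⁻¹ : A) * g (w : A) = 1 := by rw [← map_mul, Units.inv_mul, map_one]
        rw [map_div₀, div_eq_mul_inv]
        refine mul_mem (hA' a') ?_
        rw [show algebraMap K K₁ (algebraMap A K (↑w * π ^ n)) = g (w : A) * g π ^ n by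
          rw [← map_pow, ← map_mul]; rfl, mul_inv, ← eq_inv_of_mul_eq_one_left hwinv, ← inv_pow]
        exact mul_mem (hA' _) (pow_mem hπ' n)
      refine hxV' ?_
      have hint : IsIntegral K x := IsIntegral.of_finite K x
      let φ : K →+* V' := (algebraMap K K₁).codRestrict V'.toSubring hK
      letI : Algebra K V' := φ.toAlgebra
      haveI : IsScalarTower K V' K₁ := IsScalarTower.of_algebraMap_eq fun _ => rfl
      obtain ⟨y, hy⟩ := IsIntegrallyClosedIn.isIntegral_iff.mp (hint.tower_top (A := V'))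
      exact hy ▸ y.2
    · intro hx
      haveI : IsScalarTower A V K₁ := IsScalarTower.of_algebraMap_eq fun _ => rfl
      obtain ⟨y, hy⟩ := IsIntegrallyClosedIn.isIntegral_iff.mp ((hx : IsIntegral A x).tower_top (A := V))
      exact hy ▸ y.2
  haveI : Module.Finite A (integralClosure A K₁) := IsIntegralClosure.finite A K K₁ _
  let eVC : V ≃ₗ[A] integralClosure A K₁ :=
    { toFun := fun x => ⟨x, (hVC _).mp x.2⟩
      invFun := fun x => ⟨x, (hVC _).mpr x.2⟩
      map_add' := fun _ _ => rfl
      map_smul' := fun a x => Subtype.ext (by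
        show ((a • x : V) : K₁) = a • (x : K₁)
        rw [Algebra.smul_def, Algebra.smul_def]; rfl) }
  haveI : Module.Finite A V := Module.Finite.equiv eVC.symm
  haveI : IsNoetherianRing V := IsNoetherianRing.of_finite A V
  haveI : IsPrincipalIdealRing V := ((IsBezout.TFAE (R := V)).out 0 1).mp (inferInstance : IsNoetherianRing V)
  have hπm : algebraMap A V π ∈ maximalIdeal V :=
    (ValuationSubring.valuation_lt_one_iff V _).mpr (hV.2 π ((mem_maximalIdeal _).mpr hπ.not_isUnit))
  have hπ0 : algebraMap A V π ≠ 0 := fun h => hπ.ne_zero (hg0 (by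
    rw [map_zero]; exact congrArg Subtype.val h))
  haveI : IsDiscreteValuationRing V :=
    { not_a_field' := fun h => hπ0 (by simpa [h] using hπm) }
  obtain ⟨P, hP⟩ := IsDiscreteValuationRing.exists_irreducible V
  obtain ⟨e, u, hu⟩ := IsDiscreteValuationRing.eq_unit_mul_pow_irreducible hπ0 hP
  have he : 0 < e := by
    rcases Nat.eq_zero_or_pos e with rfl | he
    · exact absurd (hu ▸ hπm) (fun h => (mem_maximalIdeal _).mp h (by simp))
    · exact he
  have hPm : P ∈ maximalIdeal V := (mem_maximalIdeal _).mpr hP.not_isUnit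
  refine ⟨V, π, e, P, u, hV, fun V' hV' => huniq V' V hV' hV, hπ, he,
    fun h => hP.ne_zero (Subtype.ext h), hPm, ?_, ?_⟩
  · rw [mul_comm]
    exact congrArg Subtype.val hu
  let N : Submodule A V := Submodule.span A (Set.range fun i : Fin e => P ^ (i : ℕ))
  have step : ∀ k ≤ e, ∀ x : V, ∃ n ∈ N, ∃ y : V, x = n + P ^ k * y := by
    intro k
    induction k with
    | zero => exact fun _ x => ⟨0, zero_mem _, x, by simp⟩
    | succ k ih =>
      intro hk x
      obtain ⟨n, hn, y, rfl⟩ := ih (Nat.le_of_succ_le hk) x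
      obtain ⟨a, ha⟩ := hres V hV (residue V y)
      obtain ⟨z, hz⟩ : P ∣ y - algebraMap A V a := by
        rw [← Ideal.mem_span_singleton, ← Irreducible.maximalIdeal_eq hP, ← residue_eq_zero_iff, map_sub,
          sub_eq_zero]
        exact ha.symm
      refine ⟨n + a • P ^ k, add_mem hn (Submodule.smul_mem _ _
        (Submodule.subset_span ⟨⟨k, hk⟩, rfl⟩)), z, ?_⟩
      rw [Algebra.smul_def, pow_succ, mul_assoc, ← hz]
      ring
  have htop : (⊤ : Submodule A V) ≤ N := by
    refine Submodule.le_of_le_smul_of_le_jacobson_bot Module.Finite.fg_top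
      (IsLocalRing.maximalIdeal_le_jacobson ⊥) fun x _ => ?_
    obtain ⟨n, hn, y, rfl⟩ := step e le_rfl x
    refine add_mem (Submodule.mem_sup_left hn) (Submodule.mem_sup_right ?_)
    rw [show P ^ e * y = π • ((↑u⁻¹ : V) * y) by
      rw [Algebra.smul_def, hu, mul_mul_mul_comm, Units.mul_inv, one_mul]]
    exact Submodule.smul_mem_smul ((mem_maximalIdeal _).mpr hπ.not_isUnit) Submodule.mem_top
  have hin : ∀ y : V, (y : K₁) ∈ Submodule.span K (Set.range fun i : Fin e => (P : K₁) ^ (i : ℕ)) := by
    intro y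
    have hy : y ∈ N := htop Submodule.mem_top
    induction hy using Submodule.span_induction with
    | mem z hz => obtain ⟨i, rfl⟩ := hz; exact Submodule.subset_span ⟨i, rfl⟩
    | zero => exact zero_mem _
    | add a b _ _ ha hb => exact add_mem ha hb
    | smul a z _ hz =>
      have := Submodule.smul_mem _ (algebraMap A K a) hz
      rw [Algebra.smul_def] at this ⊢
      exact this
  rw [eq_top_iff]
  intro x _
  obtain ⟨⟨s, hs⟩, hsx⟩ := IsIntegral.exists_multiple_integral_of_isLocalization
    (nonZeroDivisors A) x (IsIntegral.of_finite K x)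
  have hy : g s * x ∈ V := (hVC _).mpr ((mem_integralClosure_iff A K₁).mpr (by simpa [Algebra.smul_def, RingHom.algebraMap_toAlgebra] using hsx))
  have h1 := Submodule.smul_mem _ (algebraMap A K s)⁻¹ (hin ⟨_, hy⟩)
  rwa [Algebra.smul_def, map_inv₀, ← mul_assoc,
    show algebraMap K K₁ (algebraMap A K s) = g s from rfl,
    inv_mul_cancel₀ (fun h => nonZeroDivisors.ne_zero hs (hg0 (h.trans (map_zero g).symm))), one_mul] at h1

variable (hinj : Function.Injective (algebraMap A B)) (hw : IsWeaklyUnramified A B)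
include hinj hw

/-- In an extension field the valuation takes powers of the uniformiser on `L` and `W ∩ K₁ = V`. -/
theorem facts {V : ValuationSubring K₁} {π : A} {e : ℕ} {P : V} {u : Vˣ}
    (huniq : ∀ V' : ValuationSubring K₁, Dominates A ((algebraMap K K₁).comp (algebraMap A K)) V' → V' = V)
    (hπ : Irreducible π) (hP0 : (P : K₁) ≠ 0) (hPm : P ∈ maximalIdeal V)
    (heq : algebraMap K K₁ (algebraMap A K π) = (P : K₁) ^ e * ((u : V) : K₁))
    {M : Type u} [Field M] [Algebra K M] [Algebra L M] [Algebra K₁ M] [IsScalarTower K L M] [IsScalarTower K K₁ M]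
    (W : ValuationSubring M) (hW : Dominates B ((algebraMap L M).comp (algebraMap B L)) W) :
    W.comap (algebraMap K₁ M) = V ∧ algebraMap K₁ M P ≠ 0 ∧ W.valuation (algebraMap K₁ M P) < 1 ∧
      ∀ l : L, l ≠ 0 → ∃ k : ℤ,
        W.valuation (algebraMap L M l) = W.valuation (algebraMap K₁ M P) ^ ((e : ℤ) * k) := by
  have hcomm : ∀ a : A, algebraMap K₁ M (algebraMap K K₁ (algebraMap A K a)) =
      algebraMap L M (algebraMap B L (algebraMap A B a)) := fun a => by
    rw [← IsScalarTower.algebraMap_apply K K₁ M, ← IsScalarTower.algebraMap_apply A B L,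
      IsScalarTower.algebraMap_apply A K L, ← IsScalarTower.algebraMap_apply K L M]
  have hcomap : W.comap (algebraMap K₁ M) = V := by
    refine huniq _ ⟨fun a => ?_, fun a ha => ?_⟩
    · show algebraMap K₁ M _ ∈ W
      rw [RingHom.comp_apply, hcomm]
      exact hW.1 _
    · have hmem : ((algebraMap K K₁).comp (algebraMap A K)) a ∈ W.comap (algebraMap K₁ M) := by
        show algebraMap K₁ M _ ∈ W
        rw [RingHom.comp_apply, hcomm]
        exact hW.1 _
      refine (ValuationSubring.valuation_lt_one_iff _ ⟨_, hmem⟩).mp ((mem_maximalIdeal _).mpr fun hu => ?_)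
      have h1 := hW.2 (algebraMap A B a) ((mem_maximalIdeal _).mpr fun h =>
        (mem_maximalIdeal _).mp ha (isUnit_of_map_unit _ _ h))
      have h2 := (ValuationSubring.valuation_lt_one_iff W ⟨_, hW.1 (algebraMap A B a)⟩).mpr h1
      refine (mem_maximalIdeal _).mp h2 ?_
      have h3 := hu.map (inclOfComap W (algebraMap K₁ M))
      rwa [show inclOfComap W (algebraMap K₁ M) ⟨_, hmem⟩ = ⟨_, hW.1 (algebraMap A B a)⟩ from
        Subtype.ext (hcomm a)] at h3
  subst hcomap
  have hPW : inclOfComap W (algebraMap K₁ M) P ∈ maximalIdeal W :=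
    (mem_maximalIdeal _).mpr fun h => (mem_maximalIdeal _).mp hPm (isUnit_of_map_unit _ _ h)
  have hP1 : W.valuation (algebraMap K₁ M P) < 1 := (ValuationSubring.valuation_lt_one_iff W _).mp hPW
  refine ⟨rfl, fun h => hP0 ((map_eq_zero _).mp h), hP1, fun l hl => ?_⟩
  have hπB : Irreducible (algebraMap A B π) := by
    have hm : maximalIdeal B = Ideal.span {algebraMap A B π} := by
      rw [← hw, Irreducible.maximalIdeal_eq hπ, Ideal.map_span, Set.image_singleton]
    exact (IsDiscreteValuationRing.irreducible_iff_uniformizer _).mpr hm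
  have hunit : ∀ {b : B}, IsUnit b → W.valuation (algebraMap L M (algebraMap B L b)) = 1 := by
    intro b hb
    have hbW : IsUnit (⟨_, hW.1 b⟩ : W) := by
      obtain ⟨b, rfl⟩ := hb
      refine IsUnit.of_mul_eq_one ⟨_, hW.1 (↑b⁻¹ : B)⟩ (Subtype.ext ?_)
      show algebraMap L M (algebraMap B L b) * algebraMap L M (algebraMap B L (↑b⁻¹ : B)) = 1
      rw [← map_mul, ← map_mul, Units.mul_inv, map_one, map_one]
    exact W.valuation_eq_one_iff ⟨_, hW.1 b⟩ |>.mp hbW
  have hpi : W.valuation (algebraMap L M (algebraMap B L (algebraMap A B π))) =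
      W.valuation (algebraMap K₁ M P) ^ (e : ℤ) := by
    have hu1 : W.valuation (algebraMap K₁ M ((u : W.comap (algebraMap K₁ M)) : K₁)) = 1 :=
      (W.valuation_eq_one_iff (inclOfComap W (algebraMap K₁ M) u)).mp
        (u.isUnit.map (inclOfComap W (algebraMap K₁ M)))
    rw [← hcomm, heq, map_mul, map_mul, hu1, mul_one, map_pow, map_pow, zpow_natCast]
  obtain ⟨x, y, hy, rfl⟩ := IsFractionRing.div_surjective (A := B) l
  have hx0 : x ≠ 0 := fun h => hl (by rw [h, map_zero, zero_div])
  obtain ⟨n, ux, rfl⟩ := IsDiscreteValuationRing.eq_unit_mul_pow_irreducible hx0 hπB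
  obtain ⟨m, uy, rfl⟩ := IsDiscreteValuationRing.eq_unit_mul_pow_irreducible (nonZeroDivisors.ne_zero hy) hπB
  refine ⟨(n : ℤ) - m, ?_⟩
  simp only [map_div₀, map_mul, map_pow]
  rw [hunit ux.isUnit, hunit uy.isUnit, one_mul, one_mul, hpi, ← zpow_natCast, ← zpow_mul, ← zpow_natCast,
    ← zpow_mul, mul_sub, zpow_sub₀ ((map_ne_zero _).mpr fun h => hP0 ((map_eq_zero _).mp h))]

theorem injective_of_field {V : ValuationSubring K₁} {π : A} {e : ℕ} {P : V} {u : Vˣ}
    (huniq : ∀ V' : ValuationSubring K₁, Dominates A ((algebraMap K K₁).comp (algebraMap A K)) V' → V' = V)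
    (hπ : Irreducible π) (hP0 : (P : K₁) ≠ 0) (hPm : P ∈ maximalIdeal V)
    (heq : algebraMap K K₁ (algebraMap A K π) = (P : K₁) ^ e * ((u : V) : K₁))
    (hspan : Submodule.span K (Set.range fun i : Fin e => (P : K₁) ^ (i : ℕ)) = ⊤)
    {M : Type u} [Field M] [Algebra K M] [Algebra L M] [Algebra K₁ M] [IsScalarTower K L M] [IsScalarTower K K₁ M]
    (q : L ⊗[K] K₁ →ₐ[K] M) (hqL : ∀ l, q (l ⊗ₜ 1) = algebraMap L M l)
    (hqK : ∀ y, q (1 ⊗ₜ y) = algebraMap K₁ M y) : Function.Injective q := by
  obtain ⟨W, hWd⟩ := exists_dominating B ((algebraMap L M).comp (algebraMap B L))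
    ((algebraMap L M).injective.comp (IsFractionRing.injective B L))
  obtain ⟨-, hρ0, hρ1, hval⟩ := facts A B K L K₁ hinj hw huniq hπ hP0 hPm heq W hWd
  refine (injective_iff_map_eq_zero _).mpr fun t ht0 => ?_
  have hmem : ∀ t : L ⊗[K] K₁,
      t ∈ Submodule.span L (Set.range fun i : Fin e => (1 : L) ⊗ₜ[K] ((P : K₁) ^ (i : ℕ))) := by
    intro t
    induction t with
    | zero => exact zero_mem _
    | add a b ha hb => exact add_mem ha hb
    | tmul l y =>
      have hy : y ∈ Submodule.span K (Set.range fun i : Fin e => (P : K₁) ^ (i : ℕ)) := hspan ▸ Submodule.mem_top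
      rw [show l ⊗ₜ[K] y = l • ((1 : L) ⊗ₜ[K] y) by rw [smul_tmul', smul_eq_mul, mul_one]]
      refine Submodule.smul_mem _ _ ?_
      induction hy using Submodule.span_induction with
      | mem z hz => obtain ⟨i, rfl⟩ := hz; exact Submodule.subset_span ⟨i, rfl⟩
      | zero => rw [tmul_zero]; exact zero_mem _
      | add a b _ _ ha hb => rw [tmul_add]; exact add_mem ha hb
      | smul k z _ hz =>
        rw [tmul_smul, ← algebraMap_smul L]
        exact Submodule.smul_mem _ _ hz
  obtain ⟨c, rfl⟩ := (Submodule.mem_span_range_iff_exists_fun L).mp (hmem t)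
  by_cases hc0 : ∀ i, c i = 0
  · simp [hc0]
  push Not at hc0
  obtain ⟨z, hz⟩ := valuation_sum_eq W _ hρ0 hρ1 hval c hc0
  have : ∑ i, algebraMap L M (c i) * algebraMap K₁ M (P : K₁) ^ (i : ℕ) = 0 := by
    rw [← ht0, map_sum]
    refine Finset.sum_congr rfl fun i _ => ?_
    rw [smul_tmul', smul_eq_mul, mul_one, ← map_pow]
    rw [show c i ⊗ₜ[K] ((P : K₁) ^ (i : ℕ)) = (c i ⊗ₜ[K] (1 : K₁)) * ((1 : L) ⊗ₜ[K] ((P : K₁) ^ (i : ℕ))) by
      rw [Algebra.TensorProduct.tmul_mul_tmul, mul_one, one_mul], map_mul, hqL, hqK]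
  rw [this, map_zero] at hz
  exact absurd hz.symm (zpow_ne_zero _ ((map_ne_zero _).mpr hρ0))

theorem result [Algebra.IsSeparable K K₁]
    (ht : IsTotallyRamified A ((algebraMap K K₁).comp (algebraMap A K))) :
    IsField (L ⊗[K] K₁) ∧ IsWeakSolution B K L K₁ := by
  classical
  obtain ⟨V, π, e, P, u, hV, huniq, hπ, he, hP0, hPm, heq, hspan⟩ := exists_data A K K₁ ht
  refine ⟨?_, ?_⟩
  · haveI : Nontrivial (L ⊗[K] K₁) :=
      (Algebra.TensorProduct.includeLeft_injective (S := K) (RingHom.injective (algebraMap K K₁))).nontrivial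
    obtain ⟨m, hm⟩ := Ideal.exists_maximal (L ⊗[K] K₁)
    haveI := hm
    let q : L ⊗[K] K₁ →ₐ[K] m.ResidueField := IsScalarTower.toAlgHom K (L ⊗[K] K₁) m.ResidueField
    letI : Algebra K₁ m.ResidueField :=
      (q.comp Algebra.TensorProduct.includeRight).toRingHom.toAlgebra
    haveI : IsScalarTower K K₁ m.ResidueField := IsScalarTower.of_algebraMap_eq fun k =>
      ((q.comp Algebra.TensorProduct.includeRight).commutes k).symm
    have hq : Function.Injective q := injective_of_field A B K L K₁ hinj hw huniq hπ hP0 hPm heq hspan q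
      (fun l => (IsScalarTower.algebraMap_apply L (L ⊗[K] K₁) m.ResidueField l).symm) (fun y => rfl)
    have hbot : m = ⊥ := (Submodule.eq_bot_iff m).mpr fun t ht => hq (by
      rw [map_zero]
      exact Ideal.algebraMap_residueField_eq_zero.mpr ht)
    by_contra hne
    exact (Ring.ne_bot_of_isMaximal_of_not_isField hm hne) hbot
  · intro M _ _ _ _ _ _ hgen W hW
    obtain ⟨hcomap, hρ0, hρ1, hval⟩ := facts A B K L K₁ hinj hw huniq hπ hP0 hPm heq W hW
    set ρ := algebraMap K₁ M P
    have hspanM : ∀ x : M, x ∈ Submodule.span L (Set.range fun i : Fin e => ρ ^ (i : ℕ)) := by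
      intro x
      have hK : ∀ y : K₁, algebraMap K₁ M y ∈ Submodule.span L (Set.range fun i : Fin e => ρ ^ (i : ℕ)) := by
        intro y
        have hy : y ∈ Submodule.span K (Set.range fun i : Fin e => (P : K₁) ^ (i : ℕ)) := hspan ▸ Submodule.mem_top
        induction hy using Submodule.span_induction with
        | mem z hz => obtain ⟨i, rfl⟩ := hz; exact Submodule.subset_span ⟨i, by simp [ρ]⟩
        | zero => rw [map_zero]; exact zero_mem _
        | add a b _ _ ha hb => rw [map_add]; exact add_mem ha hb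
        | smul k z _ hz =>
          have := Submodule.smul_mem _ (algebraMap K L k) hz
          rw [Algebra.smul_def, ← IsScalarTower.algebraMap_apply] at this
          rwa [Algebra.smul_def, map_mul, ← IsScalarTower.algebraMap_apply K K₁ M]
      have hx : x ∈ Subalgebra.toSubmodule (Algebra.adjoin L (Set.range (algebraMap K₁ M))) := by
        rw [hgen]; exact Submodule.mem_top
      rw [Algebra.adjoin_eq_span, show (Submonoid.closure (Set.range (algebraMap K₁ M)) : Set M) =
        Set.range (algebraMap K₁ M) from by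
          refine le_antisymm ?_ Submonoid.subset_closure
          exact fun z hz => (Submonoid.closure_le.mpr (fun _ h => h) :
            Submonoid.closure (Set.range (algebraMap K₁ M)) ≤ MonoidHom.mrange (algebraMap K₁ M).toMonoidHom) hz] at hx
      exact Submodule.span_le.mpr (by rintro _ ⟨y, rfl⟩; exact hK y) hx
    letI : Algebra (W.comap (algebraMap K₁ M)) W := (inclOfComap W (algebraMap K₁ M)).toAlgebra
    show IsWeaklyUnramified (W.comap (algebraMap K₁ M)) W
    unfold IsWeaklyUnramified
    refine le_antisymm (((local_hom_TFAE _).out 0 2).mp (EtRam.isLocalHom_inclOfComap W _)) fun x hx => ?_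
    obtain ⟨c, hc⟩ := (Submodule.mem_span_range_iff_exists_fun L).mp (hspanM (x : M))
    by_cases hc0 : ∀ i, c i = 0
    · have : x = 0 := Subtype.ext (by rw [← hc]; simp [hc0])
      rw [this]
      exact zero_mem _
    push Not at hc0
    obtain ⟨z, hz⟩ := valuation_sum_eq W ρ hρ0 hρ1 hval c hc0
    have hxz : W.valuation (x : M) = W.valuation ρ ^ z := by
      rw [← hz, ← hc]
      simp [Algebra.smul_def]
    have hz1 : 1 ≤ z := by
      by_contra hz'
      have h1 := (ValuationSubring.valuation_lt_one_iff W x).mp hx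
      rw [hxz] at h1
      exact absurd h1 (not_lt.mpr (one_le_zpow_of_nonpos₀ (zero_lt_iff.mpr ((map_ne_zero _).mpr hρ0)) hρ1.le
        (by omega)))
    have hwm : (x : M) / ρ ∈ W := by
      rw [← W.valuation_le_one_iff, map_div₀, hxz, div_eq_mul_inv, ← zpow_sub_one₀ ((map_ne_zero _).mpr hρ0)]
      exact zpow_le_one₀ (zero_lt_iff.mpr ((map_ne_zero _).mpr hρ0)) hρ1.le (by omega)
    have hPV : (P : K₁) ∈ W.comap (algebraMap K₁ M) := hcomap.symm ▸ P.2
    have hxe : x = algebraMap (W.comap (algebraMap K₁ M)) W ⟨P, hPV⟩ * ⟨_, hwm⟩ :=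
      Subtype.ext (mul_div_cancel₀ (x : M) hρ0).symm
    rw [hxe]
    refine Ideal.mul_mem_right _ _ (Ideal.mem_map_of_mem _ ((mem_maximalIdeal _).mpr fun hu => ?_))
    have := hu.map (inclOfComap W (algebraMap K₁ M))
    exact (mem_maximalIdeal _).mp ((ValuationSubring.valuation_lt_one_iff W
      (inclOfComap W (algebraMap K₁ M) ⟨P, hPV⟩)).mpr hρ1) this

end Groth.L05.TotRam
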